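import Cfsg.Agent.H128.K547.Par
import Cfsg.Agent.H395.K4.M12
import Cfsg.Agent.H417.DegMTwelve
import Cfsg.Agent.MTwelveType.SylowModel
import Cfsg.Agent.FooteOdd.SporMTwelve

/-!
# S4547: the row of `M12` (helper128, task 5043)

* `d3_model` : the Sylow 2-subgroups of `M12` need three generators;
* `conj_five` : all elements of order 5 are conjugate;
* `good45` : the character of degree 45 is `Good` and invariant; `ginv3` : `GInv3 τ` for every `τ`.
-/

set_option autoImplicit false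

namespace Cfsg.Agent.H128.K547.M12

open Cfsg Cfsg.Agent.Characters.Core
open Cfsg.Agent.H821.K547 Cfsg.Agent.H601.K4
open Cfsg.Agent.H419.Spor.M12 Cfsg.Agent.H419.Spor.Mathieu

universe u

/-! ### elements of order five -/

/-- an element of order 11 -/
noncomputable def xm : Spor.M12 := ⟨M, mem12 M_mem (by decide +kernel)⟩

/-- an element of order 5 -/
noncomputable def y5 : Spor.M12 := xm * x6 * x6 * x6 * x6 * xm * xm * x6

/-- it maps `y5` to its square -/
noncomputable def g5 : Spor.M12 := x6 * xm * xm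

theorem y5_conj : g5 * y5 = y5 * y5 * g5 := by
  apply Subtype.ext
  show w6 * M * M * (M * w6 * w6 * w6 * w6 * M * M * w6) =
    M * w6 * w6 * w6 * w6 * M * M * w6 * (M * w6 * w6 * w6 * w6 * M * M * w6) * (w6 * M * M)
  apply Equiv.ext
  decide +kernel

theorem y5_pow : y5 ^ 5 = 1 := by
  apply Subtype.ext
  show (M * w6 * w6 * w6 * w6 * M * M * w6) ^ 5 = 1
  apply Equiv.ext
  decide +kernel

theorem y5_ne : y5 ≠ 1 := by
  intro h
  have h1 : M * w6 * w6 * w6 * w6 * M * M * w6 = 1 := congrArg Subtype.val h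
  have h2 := Equiv.ext_iff.1 h1
  revert h2
  decide +kernel

theorem y5_order : orderOf y5 = 5 := by
  have : Fact (Nat.Prime 5) := ⟨by norm_num⟩
  exact orderOf_eq_prime y5_pow y5_ne

/-- all elements of order 5 are conjugate if one is conjugate to its square -/
theorem conj_five_of {G : Type u} [Group G] [Finite G] (h25 : ¬ 25 ∣ Nat.card G) {y g : G} (hy : orderOf y = 5)
    (hg : g * y = y * y * g) {t : G} (ht : orderOf t = 5) : IsConj y t := by
  classical
  have h5 : Fact (Nat.Prime 5) := ⟨by norm_num⟩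
  have hpg : ∀ z : G, orderOf z = 5 → IsPGroup 5 (Subgroup.zpowers z) := by
    intro z hz
    exact IsPGroup.of_card (n := 1) (by rw [Nat.card_zpowers, hz, pow_one])
  obtain ⟨P, hP⟩ := (hpg y hy).exists_le_sylow
  obtain ⟨P', hP'⟩ := (hpg t ht).exists_le_sylow
  have hcP : Nat.card P = 5 := by
    have h1 := P.card_eq_multiplicity
    have h2 : (Nat.card G).factorization 5 < 2 := by
      by_contra hcon
      push Not at hcon
      apply h25
      exact ((h5.out.pow_dvd_iff_le_factorization Nat.card_pos.ne').2 hcon : 5 ^ 2 ∣ Nat.card G)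
    have h3 : 5 ≤ Nat.card P := by
      have h4 := Subgroup.card_dvd_of_le hP
      rw [Nat.card_zpowers, hy] at h4
      exact Nat.le_of_dvd Nat.card_pos h4
    rw [h1] at h3 ⊢
    generalize (Nat.card G).factorization 5 = k at h2 h3
    interval_cases k <;> simp_all
  have hPy : (P : Subgroup G) = Subgroup.zpowers y := by
    symm
    apply Subgroup.eq_of_le_of_card_ge hP
    rw [Nat.card_zpowers, hy]
    exact hcP.le
  obtain ⟨h, hh⟩ := MulAction.exists_smul_eq G P P'
  have htP : h⁻¹ * t * h ∈ Subgroup.zpowers y := by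
    rw [← hPy]
    have h1 : t ∈ ((h • P : Sylow 5 G) : Subgroup G) := by
      rw [hh]
      exact hP' (Subgroup.mem_zpowers t)
    rw [Sylow.coe_subgroup_smul, Subgroup.mem_pointwise_smul_iff_inv_smul_mem] at h1
    have h2 : (MulAut.conj h)⁻¹ • t = h⁻¹ * t * h := by
      rw [← map_inv, MulAut.smul_def, MulAut.conj_apply, inv_inv]
    rw [h2] at h1
    exact h1
  have hc1 : IsConj y (y ^ 2) := isConj_iff.2 ⟨g, by rw [hg, pow_two]; group⟩
  have hpow : ∀ {a : G} (k : ℕ), IsConj y a → IsConj (y ^ k) (a ^ k) := fun {a} k h => h.pow k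
  have hc2 : IsConj y (y ^ 4) := by
    have h1 := hpow 2 hc1
    rw [← pow_mul] at h1
    exact hc1.trans h1
  have hc3 : IsConj y (y ^ 3) := by
    have h1 := hpow 4 hc1
    rw [← pow_mul] at h1
    have h2 : y ^ (2 * 4) = y ^ 3 := by
      rw [show 2 * 4 = 5 + 3 by norm_num, pow_add, ← hy, pow_orderOf_eq_one, one_mul]
    rw [h2] at h1
    exact hc2.trans h1
  have hconj : IsConj (h⁻¹ * t * h) t := isConj_iff.2 ⟨h, by group⟩
  refine IsConj.trans ?_ hconj
  obtain ⟨i, hi, hi2⟩ : ∃ i, i < 5 ∧ y ^ i = h⁻¹ * t * h := by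
    have h1 := mem_zpowers_iff_mem_range_orderOf.1 htP
    rw [Finset.mem_image] at h1
    obtain ⟨i, hi, hi2⟩ := h1
    rw [Finset.mem_range, hy] at hi
    exact ⟨i, hi, hi2⟩
  rw [← hi2]
  interval_cases i
  · exfalso
    have h1 : t = 1 := by
      rw [pow_zero] at hi2
      have h2 : t = h * (h⁻¹ * t * h) * h⁻¹ := by group
      rw [h2, ← hi2]
      group
    rw [h1, orderOf_one] at ht
    omega
  · rw [pow_one]
  · exact hc1
  · exact hc3
  · exact hc2

/-! ### the Sylow 2-subgroup -/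

open Cfsg.Agent.ClassificationK.GTwoModel in
/-- three homomorphisms on the Sylow 2-subgroup -/
def f3 (x : T (2 * 2)) : Fin 3 → ZMod 2 :=
  ![((x.i.val + x.j.val : ℕ) : ZMod 2), if x.e then 1 else 0, if x.d then 1 else 0]

open Cfsg.Agent.ClassificationK.GTwoModel in
theorem f3_mul : ∀ (i j i' j' : ZMod (2 * 2)) (e d e' d' : Bool),
    f3 ((⟨i, j, e, d⟩ : T (2 * 2)) * ⟨i', j', e', d'⟩) = f3 ⟨i, j, e, d⟩ + f3 ⟨i', j', e', d'⟩ := by
  decide +kernel

open Cfsg.Agent.ClassificationK.GTwoModel in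
theorem f3_surj : ∀ v : Fin 3 → ZMod 2, ∃ i : ZMod (2 * 2), ∃ e d : Bool, f3 (⟨i, 0, e, d⟩ : T (2 * 2)) = v := by
  decide +kernel

open Cfsg.Agent.ClassificationK.GTwoModel in
theorem rk_model : Rk 3 (T (2 * 2)) := by
  refine ⟨MonoidHom.mk' (fun x => Multiplicative.ofAdd (f3 x)) ?_, ?_⟩
  · rintro ⟨i, j, e, d⟩ ⟨i', j', e', d'⟩
    exact congrArg Multiplicative.ofAdd (f3_mul i j i' j' e d e' d')
  · intro v
    obtain ⟨i, e, d, hv⟩ := f3_surj (Multiplicative.toAdd v)
    exact ⟨⟨i, 0, e, d⟩, congrArg Multiplicative.ofAdd hv⟩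

section

variable {S : Type u} [Group S] (h : Spor.IsoM12 S)

include h

theorem card : Nat.card S = 95040 := by
  obtain ⟨e⟩ := h
  rw [Nat.card_congr e.toEquiv]
  exact Cfsg.Agent.MTwelveType.SylowModel.card_M12

theorem finite' : Finite S := Nat.finite_of_card_ne_zero (by rw [card h]; norm_num)

theorem simple : IsSimpleGroup S := by
  obtain ⟨e⟩ := h
  have := Cfsg.Agent.FooteOdd.SporMTwelve.simple
  exact e.isSimpleGroup

/-- the Sylow 2-subgroups need three generators -/
theorem d3 : D3 S := by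
  have hfin := finite' h
  have h2 : Fact (Nat.Prime 2) := ⟨Nat.prime_two⟩
  intro Q
  obtain ⟨e⟩ := h
  obtain ⟨e1⟩ := Cfsg.Agent.MTwelveType.SylowModel.exists_equiv (Q.mapSurjective (f := e.toMonoidHom) e.surjective)
  obtain ⟨g, hg⟩ := rk_model
  let e2 : ↥(Q : Subgroup S) ≃* ↥((Q.mapSurjective (f := e.toMonoidHom) e.surjective : Sylow 2 Spor.M12) :
      Subgroup Spor.M12) := e.subgroupMap (Q : Subgroup S)
  exact ⟨g.comp (e1.symm.toMonoidHom.comp e2.toMonoidHom), hg.comp (e1.symm.surjective.comp e2.surjective)⟩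

/-- every automorphism fixes the class of an element of order five -/
theorem conj_five : ∃ t : S, orderOf t = 5 ∧ ∀ τ : MulAut S, IsConj (τ t) t := by
  have := finite' h
  have hc := card h
  obtain ⟨e⟩ := h
  have h1 : orderOf (e.symm y5) = 5 := by rw [MulEquiv.orderOf_eq, y5_order]
  refine ⟨e.symm y5, h1, fun τ => ?_⟩
  refine (conj_five_of (y := e.symm y5) (g := e.symm g5) ?_ h1 ?_ ?_).symm
  · rw [hc]
    norm_num
  · rw [← map_mul, ← map_mul, ← map_mul, y5_conj]
  · rw [MulEquiv.orderOf_eq, h1]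

/-- **the character of degree 45** -/
theorem good45 : ∃ χ : S → ℂ, χ 1 = (45 : ℕ) ∧ Good χ ∧ ∀ (τ : MulAut S) (x : S), χ (τ x) = χ x := by
  classical
  have hfin := finite' h
  have hs := simple h
  have hc := card h
  have := Fintype.ofFinite S
  have := finite_irr (G := S)
  have := Fintype.ofFinite (IrrCharacter S)
  obtain ⟨C, t, hdeg, ho, -, -, -⟩ := H417.DegMTwelve.exists_ctx hc
    (fun P => Cfsg.Agent.MTwelve.SylowEleven.centralizer_sylow11 hc P)
    (fun P => Cfsg.Agent.MTwelve.SylowEleven.card_normalizer_sylow11 hc P)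
  have hcd : ∀ ψ : IrrCharacter S, charDegree (ψ : S → ℂ) = C.deg ψ := fun ψ => by
    rw [hdeg]
    exact Cfsg.Agent.MTwelve.ElevenMain.charDegree_eq_deg ψ
  have hone : ∀ ψ : IrrCharacter S, (ψ : S → ℂ) 1 = (C.deg ψ : ℕ) := fun ψ => by
    rw [hdeg]
    exact Cfsg.Agent.MTwelve.BlockData.apply_one ψ
  refine ⟨C.c45, by rw [hone, C.d45], ?_⟩
  apply good_of_unique C.c45.2
  · rw [hcd, C.d45]
    exact ⟨22, rfl⟩
  · intro ψ hψ hd
    rw [hcd, C.d45] at hd
    have h1 : C.deg ⟨ψ, hψ⟩ = 45 := by rw [← hcd]; exact hd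
    have h2 : (⟨ψ, hψ⟩ : IrrCharacter S) = C.c45 := by
      rcases C.rest ⟨ψ, hψ⟩ with h3 | h3 | h3 | h3 | h3 | h3 | h3 | h3
      · rw [h3, C.deg_o] at h1; omega
      · exact h3
      · rw [h3, C.d54] at h1; omega
      · rw [h3, C.d120] at h1; omega
      · rw [h3, C.d144] at h1; omega
      · rw [h3, C.dth] at h1; omega
      · rw [h3, C.dth'] at h1; omega
      · rw [h1] at h3; omega
    exact congrArg Subtype.val h2

/-- **`GInv3 τ` for all automorphisms** -/
theorem ginv3 {τ : MulAut S} (hτ : TwoPow τ) : GInv3 τ := by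
  have hfin := finite' h
  have hc := card h
  obtain ⟨χ, h1, h2, h3⟩ := good45 h
  obtain ⟨t, ht, ht2⟩ := conj_five h
  refine ginv3_of_par (by rw [hc]; exact ⟨47520, rfl⟩) hτ h2 (h3 τ) (t := t) (by rw [ht]; exact ⟨2, rfl⟩) (ht2 τ)
    (z := 0) ?_ ⟨0, rfl⟩
  rw [Int.cast_zero]
  exact H740.K4.zero_of_dvd (p := 5) (n := 1) (by norm_num) (by rw [hc]; norm_num) (by rw [hc]; norm_num) h2.odd.1 h1
    (by norm_num) (by rw [ht])

/-- the squares of the automorphisms are inner -/
theorem sq_inner (τ : MulAut S) : ∃ s : S, ∀ x, (τ ^ 2) x = s * x * s⁻¹ := by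
  obtain ⟨e⟩ := h
  let α : MulAut Spor.M12 := (e.symm.trans τ).trans e
  have hα : ∀ y, α y = e (τ (e.symm y)) := fun _ => rfl
  have hbt : ∀ y : Spor.M12, bt (bt y) = y := by
    intro y
    apply Subtype.ext
    have h2 : projInv * projInv = (1 : Equiv.Perm GolayPt) := by
      apply Equiv.ext
      decide +kernel
    have h3 : (projInv : Equiv.Perm GolayPt)⁻¹ = projInv := inv_eq_of_mul_eq_one_left h2
    show projInv * (projInv * (y : Equiv.Perm GolayPt) * projInv⁻¹) * projInv⁻¹ = y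
    rw [h3]
    calc projInv * (projInv * (y : Equiv.Perm GolayPt) * projInv) * projInv =
        (projInv * projInv) * y * (projInv * projInv) := by simp only [mul_assoc]
      _ = y := by rw [h2, one_mul, mul_one]
  have key : ∃ m : Spor.M12, ∀ y, α (α y) = m * y * m⁻¹ := by
    rcases mem_or α with ⟨m, hm⟩ | ⟨m, hm⟩
    · refine ⟨m * m, fun y => ?_⟩
      rw [hm]
      simp only [MulAut.conj_apply]
      group
    · refine ⟨m * bt m, fun y => ?_⟩
      rw [hm]
      simp only [MulAut.mul_apply, MulAut.conj_apply, map_mul, map_inv, hbt]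
      group
  obtain ⟨m, hm⟩ := key
  refine ⟨e.symm m, fun x => ?_⟩
  have h1 := hm (e x)
  rw [hα, hα, e.symm_apply_apply, e.symm_apply_apply] at h1
  have h2 := congrArg e.symm h1
  rw [e.symm_apply_apply, map_mul, map_mul, map_inv, e.symm_apply_apply] at h2
  rw [pow_two]
  exact h2

/-- **The row of `M12`** from the tool (JORDAN). -/
theorem row_of (J : ∀ τ : MulAut S, D3 S → (∃ s : S, ∀ x, (τ ^ 2) x = s * x * s⁻¹) → ¬ IsInn τ → D3 (AutExt τ)) :
    Row S where
  base := Or.inl ⟨H395.K4.M12.good5 h, d3 h⟩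
  ext := fun τ hτ hi => ⟨fun _ => J τ (d3 h) (sq_inner h τ) hi, fun _ => ginv3 h hτ⟩

end

end Cfsg.Agent.H128.K547.M12
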