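import Cfsg.Agent.H740.K4.Four
import Cfsg.Agent.H740.K4.Equiv
import Cfsg.Agent.H821.K547.Defs

/-!
# S4547: the parity tool (PAR) (helper128, for the rows)

`τ` an automorphism of 2-power order modulo inner automorphisms.

* `sum_good` : the sum of the values of the `Good` characters at an element `t` of odd order is zero modulo `M`;
* `sum_good_inv` : the same over the `τ`-invariant `Good` characters if `τ t` and `t` are conjugate;
* `ginv3_of_par` : a `τ`-invariant `Good` character with an even integral value at such an element gives `GInv3 τ`;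
* `good_of_unique` : an irreducible character of odd degree which is the only one of its degree is `Good` and invariant
  under all automorphisms.
-/

set_option autoImplicit false

open scoped ComplexConjugate

namespace Cfsg.Agent.H128.K547

open Cfsg Cfsg.Agent.Characters.Core Cfsg.Agent.H618.Sigma Cfsg.Agent.Blocks.Local
open Cfsg.Agent.H821.K547 Cfsg.Agent.H601.K4

universe u

variable {S : Type u} [Group S]

/-- the `Good` characters -/
abbrev GoodC (S : Type u) [Group S] : Type u := {χ : IrrCharacter S // Good (χ : S → ℂ)}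

/-- the sum over the `Good` characters -/
theorem sum_good [Finite S] {M : Ideal AlgInt} [M.IsPrime] (hM : IsPModular 2 M) (hev : Even (Nat.card S))
    [Fintype (GoodC S)] {t : S} (ht : Odd (orderOf t)) :
    ∑ χ : GoodC S, redC M ((χ.1 : S → ℂ) t) = 0 := by
  classical
  obtain ⟨k, hk⟩ := H740.K4.exists_cube S
  have := Fintype.ofFinite (OddB M S)
  rw [← sum_fixed_principal hM hk hev ht]
  refine Finset.sum_bij' (fun χ _ => (⟨χ.1, χ.2.b0 M hM χ.1.2, odd_iff.2 χ.2.odd.2⟩ : OddB M S))
    (fun χ hχ => (⟨χ.1, H740.K4.good_of_mem hM hk χ (Finset.mem_filter.1 hχ).2⟩ : GoodC S)) ?_ ?_ ?_ ?_ ?_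
  · intro χ _
    rw [Finset.mem_filter]
    exact ⟨Finset.mem_univ _, (sigB_eq_iff hk _).2 fun g => χ.2.sig k hk.two hk.odd g⟩
  · intro χ _
    exact Finset.mem_univ _
  · intro χ _
    rfl
  · intro χ _
    rfl
  · intro χ _
    rfl

/-- the action of an automorphism on the `Good` characters -/
def tw (τ : MulAut S) (χ : GoodC S) : GoodC S :=
  ⟨⟨fun g => (χ.1 : S → ℂ) (τ g), (H740.K4.good_comp τ χ.2).odd.1⟩, H740.K4.good_comp τ χ.2⟩

theorem tw_apply (τ : MulAut S) (χ : GoodC S) (g : S) : ((tw τ χ).1 : S → ℂ) g = (χ.1 : S → ℂ) (τ g) := rfl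

theorem tw_eq_iff {τ : MulAut S} {χ : GoodC S} : tw τ χ = χ ↔ ∀ g, (χ.1 : S → ℂ) (τ g) = (χ.1 : S → ℂ) g := by
  constructor
  · intro h g
    rw [← tw_apply, h]
  · intro h
    exact Subtype.ext (Subtype.ext (funext h))

theorem tw_iter (τ : MulAut S) (m : ℕ) (χ : GoodC S) (g : S) :
    (((tw τ)^[m] χ).1 : S → ℂ) g = (χ.1 : S → ℂ) ((τ ^ m) g) := by
  induction m generalizing χ with
  | zero => rfl
  | succ m ih =>
    rw [Function.iterate_succ_apply, ih, tw_apply, pow_succ']
    rfl

theorem tw_period {τ : MulAut S} {k : ℕ} {s : S} (h : ∀ x, (τ ^ 2 ^ k) x = s * x * s⁻¹) (χ : GoodC S) :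
    (tw τ)^[2 ^ k] χ = χ := by
  apply Subtype.ext
  apply Subtype.ext
  funext g
  rw [tw_iter, h]
  exact isIrr_isClassFunction χ.1.2 g s

/-- the sum over the invariant `Good` characters -/
theorem sum_good_inv [Finite S] {M : Ideal AlgInt} [M.IsPrime] (hM : IsPModular 2 M) (hev : Even (Nat.card S))
    [Fintype (GoodC S)] [DecidableEq (GoodC S)] {τ : MulAut S} (hτ : TwoPow τ) {t : S} (ht : Odd (orderOf t))
    (hc : IsConj (τ t) t) :
    ∑ χ : GoodC S with tw τ χ = χ, redC M ((χ.1 : S → ℂ) t) = 0 := by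
  obtain ⟨k, s, hs⟩ := hτ
  have hchar := charP_resField hM
  rw [← sum_good hM hev ht]
  symm
  refine sum_fixed_perm (tw τ) k (tw_period hs) _ fun χ => ?_
  rw [tw_apply]
  obtain ⟨g, hg⟩ := isConj_iff.1 hc
  congr 1
  conv_rhs => rw [← hg]
  exact (isIrr_isClassFunction χ.1.2 _ g).symm

/-- **(PAR)** -/
theorem ginv3_of_par [Finite S] (hev : Even (Nat.card S)) {τ : MulAut S} (hτ : TwoPow τ) {χ : S → ℂ} (hχ : Good χ)
    (hinv : ∀ x, χ (τ x) = χ x) {t : S} (ht : Odd (orderOf t)) (hc : IsConj (τ t) t) {z : ℤ} (hz : χ t = z)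
    (hz2 : Even z) : GInv3 τ := by
  classical
  obtain ⟨M, hM⟩ := Cfsg.Agent.Blocks.ExistsModular.exists_isPModular Nat.prime_two
  have : M.IsPrime := hM.2.1.isPrime
  have hfin : Finite (IrrCharacter S) := finite_irr
  have := Fintype.ofFinite (GoodC S)
  have hchar := charP_resField hM
  have h1 := sum_good_inv hM hev hτ ht hc
  let o : GoodC S := ⟨⟨fun _ => 1, Cfsg.Agent.Blocks.Basic.isIrrCharacter_one⟩, H740.K4.good_one'⟩
  let c : GoodC S := ⟨⟨χ, hχ.odd.1⟩, hχ⟩
  have ho : tw τ o = o := tw_eq_iff.2 fun g => rfl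
  have hcc : tw τ c = c := tw_eq_iff.2 hinv
  have hoc : o ≠ c := by
    intro h
    have h2 : (1 : ℂ) = χ t := congrArg (fun x : GoodC S => (x.1 : S → ℂ) t) h
    rw [hz] at h2
    have h3 : (1 : ℤ) = z := by exact_mod_cast h2
    rw [← h3] at hz2
    exact absurd hz2 (by decide)
  by_cases h3 : ∃ x : GoodC S, tw τ x = x ∧ x ≠ o ∧ x ≠ c
  · obtain ⟨x, hx, hxo, hxc⟩ := h3
    have hne : ∀ {a b : GoodC S}, a ≠ b → ((a.1 : S → ℂ)) ≠ (b.1 : S → ℂ) := fun h h' =>
      h (Subtype.ext (Subtype.ext h'))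
    refine ⟨![(o.1 : S → ℂ), (c.1 : S → ℂ), (x.1 : S → ℂ)], ?_, ?_⟩
    · intro i j hij
      fin_cases i <;> fin_cases j <;>
        first | rfl | exact absurd hij (hne hoc) | exact absurd hij.symm (hne hoc) | exact absurd hij (hne hxo) |
          exact absurd hij.symm (hne hxo) | exact absurd hij (hne hxc) | exact absurd hij.symm (hne hxc)
    · intro i
      fin_cases i
      · exact ⟨o.2, fun x => rfl⟩
      · exact ⟨c.2, hinv⟩
      · exact ⟨x.2, tw_eq_iff.1 hx⟩
  · exfalso
    push Not at h3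
    have h4 : (Finset.univ.filter fun x : GoodC S => tw τ x = x) = {o, c} := by
      ext x
      rw [Finset.mem_filter, Finset.mem_insert, Finset.mem_singleton]
      constructor
      · rintro ⟨-, hx⟩
        by_cases hxo : x = o
        · exact Or.inl hxo
        · exact Or.inr (h3 x hx hxo)
      · rintro (rfl | rfl)
        · exact ⟨Finset.mem_univ _, ho⟩
        · exact ⟨Finset.mem_univ _, hcc⟩
    rw [h4, Finset.sum_pair hoc] at h1
    have h5 : redC M ((o.1 : S → ℂ) t) = ((1 : ℤ) : ResField M) := by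
      have h6 : ((o.1 : S → ℂ) t) = ((1 : ℤ) : ℂ) := by
        rw [Int.cast_one]
      rw [h6, redC_intCast]
    have h6 : redC M ((c.1 : S → ℂ) t) = ((z : ℤ) : ResField M) := by
      have h7 : ((c.1 : S → ℂ) t) = ((z : ℤ) : ℂ) := hz
      rw [h7, redC_intCast]
    rw [h5, h6, ← Int.cast_add] at h1
    have h7 : ((2 : ℕ) : ℤ) ∣ 1 + z := (CharP.intCast_eq_zero_iff (ResField M) 2 _).1 h1
    obtain ⟨w, hw⟩ := hz2
    omega

/-- an irreducible character of odd degree which is the only one of its degree -/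
theorem good_of_unique [Finite S] {χ : S → ℂ} (hχ : IsIrrCharacter S χ) (hodd : Odd (charDegree χ))
    (hu : ∀ ψ : S → ℂ, IsIrrCharacter S ψ → charDegree ψ = charDegree χ → ψ = χ) :
    Good χ ∧ ∀ (τ : MulAut S) (x : S), χ (τ x) = χ x := by
  have hirr : OddIrr χ := ⟨hχ, odd_iff.1 hodd⟩
  refine ⟨⟨hirr, ?_, ?_⟩, ?_⟩
  · apply SigFix.of_pow
    intro k hk g
    have h1 := hu (fun g => χ (g ^ k)) (Cfsg.Agent.Characters.GaloisIrr.isIrr_pow hk hχ) (by
      unfold charDegree
      simp only [one_pow])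
    exact congrFun h1 g
  · apply InB0.of_real hirr
    intro g
    have h1 := hu (fun g => conj (χ g)) (isIrr_conj hχ) (by
      unfold charDegree
      simp)
    exact Complex.conj_eq_iff_im.1 (congrFun h1 g)
  · intro τ x
    have h1 := hu (fun g => χ (τ g)) (isIrr_comp τ.toMonoidHom τ.surjective hχ) (by
      unfold charDegree
      simp only [map_one])
    exact congrFun h1 x

end Cfsg.Agent.H128.K547
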